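import Mathlib
import Cfsg.Agent.Lib.NumberTheory.Zsigmondy

/-!
# Arithmetic of the orders of `PSL₂(2 ^ n)` and `Sz(2 ^ a)`
-/

set_option autoImplicit false

namespace CfsgLib.CITGraph

open CfsgLib.NumberTheory

/-- A primitive prime divisor of `2 ^ k - 1`, `k ≥ 3`, `k ≠ 6`, with its properties. -/
theorem exists_ppd {k : ℕ} (hk : 3 ≤ k) (h6 : k ≠ 6) :
    ∃ r : ℕ, r.Prime ∧ k < r ∧ (∀ j, r ∣ 2 ^ j - 1 ↔ k ∣ j) := by
  obtain ⟨r, hr⟩ := exists_isPPD (a := 2) (n := k) (by norm_num) (by omega) (by omega) (by omega)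
  exact ⟨r, hr.prime, hr.lt (by norm_num) (by omega), hr.dvd_pow_sub_one_iff (by norm_num) (by omega)⟩

theorem two_pow_two_mul_sub_one (m : ℕ) : 2 ^ (2 * m) - 1 = (2 ^ m + 1) * (2 ^ m - 1) := by
  rw [mul_comm 2 m, pow_mul]
  simpa using Nat.sq_sub_sq (2 ^ m) 1

theorem even_exponent_eq {n m : ℕ} (hn : 1 ≤ n) (hm : 4 ≤ m)
    (h : ∀ r : ℕ, r.Prime → r ≠ 2 → (r ∣ 2 ^ (2 * m) - 1 ↔ r ∣ 2 ^ (2 * n) - 1)) : n = m := by
  obtain ⟨r, hr, hlt, hdvd⟩ := exists_ppd (k := 2 * m) (by omega) (by omega)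
  have h1 : 2 * m ∣ 2 * n := (hdvd _).1 ((h r hr (by omega)).1 ((hdvd _).2 dvd_rfl))
  have hmn : m ≤ n := Nat.le_of_dvd (by omega) (Nat.dvd_of_mul_dvd_mul_left two_pos h1)
  obtain ⟨s, hs, hlts, hdvds⟩ := exists_ppd (k := 2 * n) (by omega) (by omega)
  have h2 : 2 * n ∣ 2 * m := (hdvds _).1 ((h s hs (by omega)).2 ((hdvds _).2 dvd_rfl))
  have hnm : n ≤ m := Nat.le_of_dvd (by omega) (Nat.dvd_of_mul_dvd_mul_left two_pos h2)
  omega

/-- The odd prime divisors of `p * (p ^ 2 - 1)`, `p = 2 ^ k ± 1` prime, do not match those of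
`2 ^ (2 * m) - 1`. -/
theorem fermat_mersenne_false {p k m : ℕ} (hp : p.Prime) (h7 : 7 ≤ p) (hm : 4 ≤ m)
    (hk : p = 2 ^ k + 1 ∨ p + 1 = 2 ^ k)
    (h : ∀ r : ℕ, r.Prime → r ≠ 2 → (r ∣ 2 ^ (2 * m) - 1 ↔ r ∣ (p + 1) * (p * (p - 1)))) :
    False := by
  have hppm : p ∣ 2 ^ (2 * m) - 1 := (h p hp (by omega)).2 ((dvd_mul_right p _).mul_left _)
  have hk3 : 3 ≤ k := by
    by_contra hk'
    have : 2 ^ k ≤ 2 ^ 2 := Nat.pow_le_pow_right two_pos (by omega)
    omega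
  -- the multiplicative order of 2 modulo p
  set o := orderOf (2 : ZMod p) with ho
  have hord : ∀ j, p ∣ 2 ^ j - 1 ↔ o ∣ j := fun j => by
    rw [dvd_pow_sub_one_iff_orderOf_dvd (a := 2) (by norm_num), Nat.cast_ofNat]
  obtain ⟨r, hr, hlt, hdvd⟩ := exists_ppd (k := 2 * m) (by omega) (by omega)
  have hrN : r ∣ (p + 1) * (p * (p - 1)) := (h r hr (by omega)).1 ((hdvd _).2 dvd_rfl)
  have hr2 : ∀ j, ¬ r ∣ 2 ^ j := fun j hd => by
    have := (Nat.prime_dvd_prime_iff_eq hr Nat.prime_two).1 (hr.dvd_of_dvd_pow hd); omega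
  have ho0 : 0 < o := Nat.pos_of_dvd_of_pos ((hord _).1 hppm) (by omega)
  have hbig : ∀ j, 0 < j → p ∣ 2 ^ j - 1 → p < 2 ^ j := fun j hj hd => by
    have h1 : 2 ^ 1 ≤ 2 ^ j := Nat.pow_le_pow_right two_pos hj
    have := Nat.le_of_dvd (by omega) hd
    omega
  rcases hk with hk | hk
  · have hkm : k ∣ k := dvd_rfl
    -- the order of 2 is `2 * k`
    have hd2k : p ∣ 2 ^ (2 * k) - 1 := by
      rw [two_pow_two_mul_sub_one, ← hk]; exact dvd_mul_right _ _
    have hok : k < o := by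
      by_contra hle
      have h1 := hbig o ho0 ((hord o).2 dvd_rfl)
      rcases Nat.lt_or_eq_of_le (not_lt.1 hle) with h2 | h2
      · have := Nat.pow_le_pow_right two_pos h2.le
        omega
      · rw [h2] at h1
        omega
    have ho2 : o = 2 * k := by
      obtain ⟨c, hc⟩ := (hord _).1 hd2k
      rcases c with _ | _ | c
      · omega
      · omega
      · nlinarith
    have hkm2 : k ∣ m := by
      have := (hord _).1 hppm
      rw [ho2] at this
      exact Nat.dvd_of_mul_dvd_mul_left two_pos this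
    have hkle : k ≤ m := Nat.le_of_dvd (by omega) hkm2
    rcases hr.dvd_mul.1 hrN with hd | hd
    · -- `r` divides `p + 1 = 2 * (2 ^ (k - 1) + 1)`
      rw [hk, show 2 ^ k + 1 + 1 = 2 * (2 ^ (k - 1) + 1) by
        conv_lhs => rw [show k = k - 1 + 1 by omega, pow_succ]
        ring] at hd
      rcases hr.dvd_mul.1 hd with hd | hd
      · exact hr2 1 (by simpa using hd)
      · have : r ∣ 2 ^ (2 * (k - 1)) - 1 := by
          rw [two_pow_two_mul_sub_one]; exact hd.mul_right _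
        have := Nat.le_of_dvd (by omega) ((hdvd _).1 this)
        omega
    rcases hr.dvd_mul.1 hd with hd | hd
    · obtain rfl := (Nat.prime_dvd_prime_iff_eq hr hp).1 hd
      have h2m : 2 * m ∣ 2 * k := (hdvd _).1 hd2k
      have hmk : k = m := by
        have := Nat.le_of_dvd (by omega) h2m
        omega
      subst hmk
      have h6 : k ≠ 6 := by rintro rfl; rw [hk] at hp; norm_num at hp
      obtain ⟨s, hs, hlts, hdvds⟩ := exists_ppd (k := k) (by omega) h6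
      have hsm : s ∣ 2 ^ k - 1 := (hdvds _).2 dvd_rfl
      have hsN := (h s hs (by omega)).1 (by
        rw [two_pow_two_mul_sub_one]; exact hsm.mul_left _)
      rcases hs.dvd_mul.1 hsN with hd | hd
      · have : s ∣ 3 := by
          have := Nat.dvd_sub hd hsm
          rwa [show r + 1 - (2 ^ k - 1) = 3 by omega] at this
        have := Nat.le_of_dvd (by norm_num) this
        omega
      rcases hs.dvd_mul.1 hd with hd | hd
      · have : s ∣ 2 := by
          have := Nat.dvd_sub hd hsm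
          rwa [show r - (2 ^ k - 1) = 2 by omega] at this
        have := Nat.le_of_dvd (by norm_num) this
        omega
      · rw [show r - 1 = 2 ^ k by omega] at hd
        have := (Nat.prime_dvd_prime_iff_eq hs Nat.prime_two).1 (hs.dvd_of_dvd_pow hd)
        omega
    · exact hr2 k (by rwa [show p - 1 = 2 ^ k by omega] at hd)
  · have hdk : p ∣ 2 ^ k - 1 := by rw [show 2 ^ k - 1 = p by omega]
    have hok : o = k := by
      have h1 := Nat.le_of_dvd (by omega) ((hord k).1 hdk)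
      have h2 := hbig o ho0 ((hord o).2 dvd_rfl)
      rcases Nat.lt_or_eq_of_le h1 with h3 | h3
      · have h4 := Nat.pow_le_pow_right two_pos (show o ≤ k - 1 by omega)
        have h5 : 2 ^ k = 2 ^ (k - 1) * 2 := by rw [← pow_succ, Nat.sub_add_cancel (by omega)]
        omega
      · exact h3
    have hk2m : k ∣ 2 * m := hok ▸ (hord _).1 hppm
    have key : 2 * m = k → False := by
      rintro rfl
      have e : p = (2 ^ m + 1) * (2 ^ m - 1) := by rw [← two_pow_two_mul_sub_one]; omega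
      have : 2 ^ 4 ≤ 2 ^ m := Nat.pow_le_pow_right two_pos hm
      rw [e, Nat.prime_mul_iff] at hp
      omega
    rcases hr.dvd_mul.1 hrN with hd | hd
    · exact hr2 k (hk ▸ hd)
    rcases hr.dvd_mul.1 hd with hd | hd
    · obtain rfl := (Nat.prime_dvd_prime_iff_eq hr hp).1 hd
      exact key (Nat.dvd_antisymm ((hdvd _).1 hdk) hk2m)
    · have h5 : 2 ^ k = 2 ^ (k - 1) * 2 := by rw [← pow_succ, Nat.sub_add_cancel (by omega)]
      rw [show p - 1 = 2 * (2 ^ (k - 1) - 1) by omega] at hd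
      rcases hr.dvd_mul.1 hd with hd | hd
      · exact hr2 1 (by simpa using hd)
      · have hle := Nat.le_of_dvd (by omega) ((hdvd _).1 hd)
        obtain ⟨c, hc⟩ := hk2m
        rcases c with _ | _ | c
        · omega
        · omega
        · nlinarith [show 2 * m ≤ k - 1 from hle, show k - 1 < k by omega]

theorem suzuki_odd_part_dvd {b r : ℕ} (hr : r ∣ ((2 ^ b) ^ 2 + 1) * (2 ^ b - 1)) :
    r ∣ 2 ^ (4 * b) - 1 := by
  refine hr.trans ?_
  rw [show 4 * b = 2 * (2 * b) by ring, two_pow_two_mul_sub_one (2 * b),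
    two_pow_two_mul_sub_one b, ← pow_mul, mul_comm b 2]
  exact mul_dvd_mul_left _ (dvd_mul_left _ _)

theorem suzuki_exponent_eq {a b : ℕ} (ha : 3 ≤ a) (hb : 3 ≤ b)
    (h : ∀ r : ℕ, r.Prime → r ≠ 2 →
      (r ∣ ((2 ^ a) ^ 2 + 1) * (2 ^ a - 1) ↔ r ∣ ((2 ^ b) ^ 2 + 1) * (2 ^ b - 1))) : a = b := by
  have key : ∀ c d : ℕ, 3 ≤ c → (∀ r : ℕ, r.Prime → r ≠ 2 → r ∣ ((2 ^ c) ^ 2 + 1) * (2 ^ c - 1) →
      r ∣ ((2 ^ d) ^ 2 + 1) * (2 ^ d - 1)) → c ∣ d := by
    intro c d hc hcd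
    obtain ⟨r, hr, hlt, hdvd⟩ := exists_ppd (k := 4 * c) (by omega) (by omega)
    have hrc : r ∣ (2 ^ c) ^ 2 + 1 := by
      have h1 : r ∣ 2 ^ (4 * c) - 1 := (hdvd _).2 dvd_rfl
      rw [show 4 * c = 2 * (2 * c) by ring, two_pow_two_mul_sub_one] at h1
      rcases hr.dvd_mul.1 h1 with h1 | h1
      · rwa [← pow_mul, mul_comm c 2]
      · have := Nat.le_of_dvd (by omega) ((hdvd _).1 h1)
        omega
    have := (hdvd _).1 (suzuki_odd_part_dvd (hcd r hr (by omega) (hrc.mul_right _)))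
    exact Nat.dvd_of_mul_dvd_mul_left (by norm_num) this
  exact Nat.dvd_antisymm (key a b ha fun r hr hr2 => (h r hr hr2).1)
    (key b a hb fun r hr hr2 => (h r hr hr2).2)

/-- `3` does not divide the order of a Suzuki group. -/
theorem not_three_dvd_suzuki (m : ℕ) :
    ¬ 3 ∣ (2 ^ (2 * m + 1)) ^ 2 * ((2 ^ (2 * m + 1)) ^ 2 + 1) * (2 ^ (2 * m + 1) - 1) := by
  have h : 2 ^ (2 * m + 1) % 3 = 2 := by
    rw [pow_succ, pow_mul, Nat.mul_mod, Nat.pow_mod]
    norm_num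
  obtain ⟨c, hc⟩ : ∃ c, 2 ^ (2 * m + 1) = 3 * c + 2 :=
    ⟨2 ^ (2 * m + 1) / 3, by omega⟩
  rw [hc, Nat.prime_three.dvd_mul, Nat.prime_three.dvd_mul]
  have h2 : (3 * c + 2) ^ 2 = 3 * (3 * c ^ 2 + 4 * c + 1) + 1 := by ring
  omega

/-- `3` divides `(n + 1) * (n * (n - 1))`. -/
theorem three_dvd_consecutive (n : ℕ) : 3 ∣ (n + 1) * (n * (n - 1)) := by
  rcases (by omega : n % 3 = 0 ∨ n % 3 = 1 ∨ n % 3 = 2) with h | h | h
  · exact (dvd_mul_of_dvd_left (show 3 ∣ n by omega) _).mul_left _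
  · exact (dvd_mul_of_dvd_right (show 3 ∣ n - 1 by omega) _).mul_left _
  · exact dvd_mul_of_dvd_left (show 3 ∣ n + 1 by omega) _

end CfsgLib.CITGraph
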