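import Mathlib
import Cfsg.Agent.Lib.CIT.Basic
import Cfsg.Agent.Lib.PCore.Basic
import Cfsg.Agent.Lib.PF.OddOrder
import Cfsg.Agent.Lib.Recog.Coclique

/-!
# Groups with the prime graph of a simple group in which `2` is an isolated vertex

Modulo its largest normal 2-subgroup such a group has involution centralizers that are 2-groups,
trivial cores and the same prime divisors.
-/

set_option autoImplicit false
set_option linter.style.haveILetI false

namespace CfsgLib.CITGraph

open Subgroup CfsgLib.CIT CfsgLib.Involutions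

universe u

/-- A group of odd order is solvable. -/
theorem isSolvable_of_odd_card {X : Type u} [Group X] [Finite X] (h : Odd (Nat.card X)) :
    Group.IsSolvable X :=
  CfsgLib.PF.oddSolvable X h

/-- A non-solvable group whose involution centralizers are 2-groups has no odd core. -/
theorem pPrimeCore_eq_bot {X : Type u} [Group X] [Finite X] (h : IsCIT X)
    (hns : ¬ Group.IsSolvable X) : Cfsg.pPrimeCore 2 X = ⊥ := by
  haveI : Fact (Nat.Prime 2) := ⟨Nat.prime_two⟩
  by_contra hK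
  obtain ⟨k, hk, hk1⟩ := (bot_or_exists_ne_one _).resolve_left hK
  have hodd : ∀ x ∈ Cfsg.pPrimeCore 2 X, Odd (orderOf x) := fun x hx => by
    rw [← Nat.coprime_two_right]
    exact CfsgLib.PCore.pPrimeCore_coprime.coprime_dvd_left (orderOf_dvd_natCard _ hx)
  have hinv : ∀ t : X, orderOf t = 2 → ∀ a ∈ Cfsg.pPrimeCore 2 X, t * a * t⁻¹ = a⁻¹ := by
    intro t ht a ha
    have hKn : (Cfsg.pPrimeCore 2 X).Normal := inferInstance
    let φ : ↥(Cfsg.pPrimeCore 2 X) → ↥(Cfsg.pPrimeCore 2 X) := fun n =>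
      ⟨(n : X)⁻¹ * (t * n * t⁻¹), mul_mem (inv_mem n.2) (hKn.conj_mem _ n.2 t)⟩
    have hφ : Function.Injective φ := by
      intro a b e
      have e' : (a : X)⁻¹ * (t * a * t⁻¹) = (b : X)⁻¹ * (t * b * t⁻¹) := congrArg Subtype.val e
      have hc : Commute ((b : X) * (a : X)⁻¹) t := by
        show (b : X) * (a : X)⁻¹ * t = t * ((b : X) * (a : X)⁻¹)
        calc (b : X) * (a : X)⁻¹ * t = b * ((a : X)⁻¹ * (t * a * t⁻¹)) * t * (a : X)⁻¹ := by group
          _ = _ := by rw [e']; group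
      have hm := h.eq_one_of_commute (IsTwo.of_orderOf_two ht) (ne_one_of_involution ht)
        (hodd _ (mul_mem b.2 (inv_mem a.2))) hc
      exact Subtype.ext (mul_inv_eq_one.1 hm).symm
    obtain ⟨⟨m, hm'⟩, hm⟩ := (Finite.injective_iff_surjective.1 hφ) ⟨a, ha⟩
    have hm2 : a = m⁻¹ * (t * m * t⁻¹) := (congrArg Subtype.val hm).symm
    rw [hm2, inv_eq_self_of_involution ht, mul_inv_rev, mul_inv_rev, mul_inv_rev, inv_inv,
      inv_eq_self_of_involution ht]
    calc t * (m⁻¹ * (t * m * t)) * t = t * m⁻¹ * t * m * (t * t) := by group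
      _ = _ := by rw [mul_self_eq_one ht]; group
  set C := centralizer (Cfsg.pPrimeCore 2 X : Set X) with hC
  haveI hCn : C.Normal := inferInstance
  have hCodd : ∀ c ∈ C, Odd (orderOf c) := by
    intro c hc
    rw [Nat.odd_iff]
    by_contra hev
    have h2 : 2 ∣ orderOf c := Nat.dvd_of_mod_eq_zero (by omega)
    have ht : orderOf (c ^ (orderOf c / 2)) = 2 := orderOf_pow_orderOf_div (orderOf_pos c).ne' h2
    have h1 := hinv _ ht k hk
    rw [← mem_centralizer_iff.1 (pow_mem hc _) k hk, mul_inv_cancel_right] at h1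
    have h2k : k ^ 2 = 1 := by rw [pow_two]; exact mul_eq_one_iff_eq_inv.2 h1
    obtain ⟨j, hj⟩ := hodd k hk
    apply hk1
    have := pow_orderOf_eq_one k
    rwa [hj, pow_succ, pow_mul, h2k, one_pow, one_mul] at this
  apply hns
  by_cases hX : Odd (Nat.card X)
  · exact isSolvable_of_odd_card hX
  obtain ⟨t, ht⟩ := exists_prime_orderOf_dvd_card' 2
    (even_iff_two_dvd.1 (Nat.not_odd_iff_even.1 hX) : 2 ∣ Nat.card X)
  have hquot : IsPGroup 2 (X ⧸ C) := by
    intro xb
    obtain ⟨y, rfl⟩ := QuotientGroup.mk_surjective xb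
    -- `y * t * y⁻¹` is conjugate to `t` under `C`
    set c := y * t * y⁻¹ * t⁻¹ with hcdef
    have ht' : orderOf (y * t * y⁻¹) = 2 := by rw [orderOf_conj_eq, ht]
    have hcC : c ∈ C := by
      rw [hC, mem_centralizer_iff]
      intro a ha
      have hb : t * a * t⁻¹ = a⁻¹ := hinv t ht a ha
      have he : c * a * c⁻¹ = a := by
        calc c * a * c⁻¹ = (y * t * y⁻¹) * (t⁻¹ * a * t) * (y * t * y⁻¹)⁻¹ := by
              rw [hcdef]; group
          _ = a := by
            rw [show t⁻¹ * a * t = a⁻¹ by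
              rw [inv_eq_self_of_involution ht] at hb ⊢; exact hb]
            rw [hinv _ ht' _ (inv_mem ha), inv_inv]
      exact (mul_inv_eq_iff_eq_mul.1 he).symm
    obtain ⟨j, hj⟩ := hCodd c hcC
    have hct : c * t = y * t * y⁻¹ := by rw [hcdef]; group
    have hinvc : t * c * t⁻¹ = c⁻¹ := by
      rw [eq_inv_iff_mul_eq_one, inv_eq_self_of_involution ht,
        show t * c * t * c = t * ((c * t) * (c * t)) * t⁻¹ by group, hct, mul_self_eq_one ht', mul_one,
        mul_inv_cancel]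
    set d := c ^ (j + 1) with hd
    have hdt : d * t * d⁻¹ = c * t := by
      have h1 : t * d * t⁻¹ = d⁻¹ := inverts_pow hinvc _
      have h2 : t * d⁻¹ = d * t := by
        have h3 : d = t * d⁻¹ * t⁻¹ := by
          rw [show t * d⁻¹ * t⁻¹ = (t * d * t⁻¹)⁻¹ by group, h1, inv_inv]
        nth_rewrite 2 [h3]
        group
      calc d * t * d⁻¹ = d * (t * d⁻¹) := mul_assoc _ _ _
        _ = d * d * t := by rw [h2, mul_assoc]
        _ = c * t := by
          rw [hd, ← pow_add, show j + 1 + (j + 1) = (2 * j + 1) + 1 by omega, pow_succ, ← hj,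
            pow_orderOf_eq_one, one_mul]
    have hz : d⁻¹ * y ∈ centralizer ({t} : Set X) := by
      rw [mem_centralizer_singleton_iff]
      calc d⁻¹ * y * t = d⁻¹ * (y * t * y⁻¹) * y := by group
        _ = d⁻¹ * (d * t * d⁻¹) * y := by rw [hdt, hct]
        _ = t * (d⁻¹ * y) := by group
    obtain ⟨n, hn⟩ := h t ht ⟨_, hz⟩
    have hn' : (d⁻¹ * y) ^ 2 ^ n = 1 := congrArg Subtype.val hn
    refine ⟨n, ?_⟩
    have hdC : (QuotientGroup.mk d : X ⧸ C) = 1 := (QuotientGroup.eq_one_iff d).2 (pow_mem hcC _)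
    rw [show (QuotientGroup.mk y : X ⧸ C) = QuotientGroup.mk (d⁻¹ * y) by
      rw [QuotientGroup.mk_mul, QuotientGroup.mk_inv, hdC, inv_one, one_mul],
      ← QuotientGroup.mk_pow, hn', QuotientGroup.mk_one]
  haveI : Group.IsSolvable ↥C := by
    apply isSolvable_of_odd_card
    rw [Nat.odd_iff]
    by_contra hev
    obtain ⟨⟨c, hc⟩, hc2⟩ := exists_prime_orderOf_dvd_card' 2
      (Nat.dvd_of_mod_eq_zero (show Nat.card C % 2 = 0 by omega) : 2 ∣ Nat.card C)
    rw [Subgroup.orderOf_mk] at hc2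
    have h3 := hCodd c hc
    rw [hc2] at h3
    exact absurd h3 (by decide)
  haveI : Group.IsNilpotent (X ⧸ C) := hquot.isNilpotent
  exact Group.isSolvable_of_ker_le_range C.subtype (QuotientGroup.mk' C) (by simp)

/-- Two groups whose orders have the same prime divisors, with the same adjacencies. -/
def SameGraph (L : Type*) (G : Type*) [Group L] [Group G] : Prop :=
  (∀ r : ℕ, r.Prime → (r ∣ Nat.card L ↔ r ∣ Nat.card G)) ∧
    ∀ r s : ℕ, r.Prime → s.Prime → r ≠ s →
      ((∃ x : L, orderOf x = r * s) ↔ ∃ y : G, orderOf y = r * s)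

/-- What a group with the prime graph of `L` becomes modulo its largest normal 2-subgroup. -/
theorem reduce {L : Type*} [Group L] [Finite L] {G : Type u} [Group G] [Finite G]
    (hG : SameGraph L G) (h2 : ∀ r : ℕ, r.Prime → r ≠ 2 → ¬ ∃ x : L, orderOf x = 2 * r)
    {r s : ℕ} (hr : r.Prime) (hs : s.Prime) (hr2 : r ≠ 2) (hs2 : s ≠ 2) (hrs : r ≠ s)
    (hL2 : 2 ∣ Nat.card L) (hrL : r ∣ Nat.card L) (hsL : s ∣ Nat.card L)
    (hadj : ¬ ∃ x : L, orderOf x = r * s) :
    IsCIT (G ⧸ Cfsg.pCore 2 G) ∧ Cfsg.pCore 2 (G ⧸ Cfsg.pCore 2 G) = ⊥ ∧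
      Cfsg.pPrimeCore 2 (G ⧸ Cfsg.pCore 2 G) = ⊥ ∧ Nontrivial (G ⧸ Cfsg.pCore 2 G) ∧
      ∀ p : ℕ, p.Prime → (p ∣ Nat.card L ↔ p ∣ Nat.card (G ⧸ Cfsg.pCore 2 G)) := by
  haveI : Fact (Nat.Prime 2) := ⟨Nat.prime_two⟩
  have hCIT : IsCIT G := by
    intro t ht
    by_contra hC
    obtain ⟨y, hy, p, hp, hp2, hyp⟩ := exists_odd_prime_order hC
    have hpG : p ∣ Nat.card G := hyp ▸ orderOf_dvd_natCard y
    refine h2 p hp hp2 ((hG.2 2 p Nat.prime_two hp hp2.symm).2 ⟨t * y, ?_⟩)
    have hcomm : Commute t y := (mem_centralizer_singleton_iff.1 hy).symm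
    rw [hcomm.orderOf_mul_eq_mul_orderOf_of_coprime, ht, hyp]
    rw [ht, hyp]
    exact (Nat.coprime_primes Nat.prime_two hp).2 hp2.symm
  have hns : ¬ Group.IsSolvable G := by
    refine CfsgLib.Recog.Coclique.not_isSolvable_of_coclique (S := {2, r, s}) ⟨?_, ?_⟩ ?_ ?_
    · simp [Nat.prime_two, hr, hs]
    · have key : ∀ a b : ℕ, a.Prime → b.Prime → a ≠ b → (¬ ∃ x : L, orderOf x = a * b) →
          ¬ ∃ y : G, orderOf y = a * b := fun a b ha hb hab hn he => hn ((hG.2 a b ha hb hab).2 he)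
      have hsym : ∀ a b : ℕ, (¬ ∃ x : L, orderOf x = a * b) → ¬ ∃ x : L, orderOf x = b * a :=
        fun a b hn he => hn (mul_comm b a ▸ he)
      intro a ha b hb hab
      simp only [Finset.mem_insert, Finset.mem_singleton] at ha hb
      rcases ha with rfl | rfl | rfl <;> rcases hb with rfl | rfl | rfl
      all_goals first
        | exact absurd rfl hab
        | exact key _ _ Nat.prime_two hr hab (h2 _ hr hr2)
        | exact key _ _ Nat.prime_two hs hab (h2 _ hs hs2)
        | exact key _ _ hr Nat.prime_two hab (hsym _ _ (h2 _ hr hr2))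
        | exact key _ _ hs Nat.prime_two hab (hsym _ _ (h2 _ hs hs2))
        | exact key _ _ hr hs hab hadj
        | exact key _ _ hs hr hab (hsym _ _ hadj)
    · rw [Finset.card_eq_three.2 ⟨2, r, s, hr2.symm, hs2.symm, hrs, rfl⟩]
    · simp [← hG.1 2 Nat.prime_two, ← hG.1 r hr, ← hG.1 s hs, hL2, hrL, hsL]
  set U := Cfsg.pCore 2 G with hU
  have hU2 : IsPGroup 2 U := CfsgLib.PCore.pCore_isPGroup
  haveI : Group.IsNilpotent ↥U := hU2.isNilpotent
  have hns' : ¬ Group.IsSolvable (G ⧸ U) := fun hq => hns (by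
    haveI := hq
    exact Group.isSolvable_of_ker_le_range U.subtype (QuotientGroup.mk' U) (by simp))
  have hX := hCIT.quotient U hU2
  refine ⟨hX, CfsgLib.PCore.pCore_quotient_pCore, pPrimeCore_eq_bot hX hns', ?_, ?_⟩
  · by_contra hnt
    haveI : Subsingleton (G ⧸ U) := not_nontrivial_iff_subsingleton.1 hnt
    exact hns' inferInstance
  · intro p hp
    rw [hG.1 p hp, card_eq_card_quotient_mul_card_subgroup U]
    refine ⟨fun hd => ?_, fun hd => hd.mul_right _⟩
    rcases hp.dvd_mul.1 hd with hd | hd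
    · exact hd
    obtain ⟨n, hn⟩ := hU2.exists_card_eq
    rw [hn] at hd
    obtain rfl := (Nat.prime_dvd_prime_iff_eq hp Nat.prime_two).1 (hp.dvd_of_dvd_pow hd)
    by_contra hodd
    have h2c : ¬ 2 ∣ Nat.card (G ⧸ U) := hodd
    exact hns' (isSolvable_of_odd_card (Nat.odd_iff.2 (Nat.two_dvd_ne_zero.1 h2c)))

end CfsgLib.CITGraph
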