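import Mathlib
import Cfsg.Agent.Lib.CITGraph.Basic
import Cfsg.Agent.Lib.CITGraph.Arith
import Cfsg.Agent.Lib.CIT.Steps
import Cfsg.Agent.Lib.PrimRecog.PSLTwoSquareSpectrum
import Cfsg.Agent.Lib.PSL2.Basic
import Cfsg.Agent.Lib.ClassicalGroups.PermModel

/-!
# Groups with the prime graph of `PSL₂(2 ^ m)`, `m ≥ 4`
-/

set_option autoImplicit false
set_option linter.style.haveILetI false

namespace CfsgLib.CITGraph

open Subgroup CfsgLib.CIT

universe u

local notation "PSL₂" F => Matrix.ProjectiveSpecialLinearGroup (Fin 2) F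

theorem charP_two {F : Type*} [Field F] [Fintype F] {n : ℕ} (hF : Fintype.card F = 2 ^ n) :
    CharP F 2 := by
  obtain ⟨p, hp⟩ := CharP.exists F
  obtain ⟨k, hpr, hk⟩ := FiniteField.card F p
  have h : p ∣ 2 ^ n := hF ▸ hk ▸ dvd_pow_self p k.2.ne'
  obtain rfl := (Nat.prime_dvd_prime_iff_eq hpr Nat.prime_two).1 (hpr.dvd_of_dvd_pow h)
  exact hp

theorem card_psl_two {F : Type*} [Field F] [Fintype F] {n : ℕ} (hn : n ≠ 0)
    (hF : Fintype.card F = 2 ^ n) :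
    Nat.card (PSL₂ F) = 2 ^ n * (2 ^ (2 * n) - 1) := by
  have h := CfsgLib.PSL2.card_psl (F := F)
  rw [CfsgLib.PSL2.gcd_eq_one (by rw [hF]; exact (Nat.even_pow' hn).2 even_two), one_mul, hF] at h
  rw [h, two_pow_two_mul_sub_one]
  ring

theorem odd_prime_dvd_psl_two {F : Type*} [Field F] [Fintype F] {n : ℕ} (hn : n ≠ 0)
    (hF : Fintype.card F = 2 ^ n) {r : ℕ} (hr : r.Prime) (hr2 : r ≠ 2) :
    r ∣ Nat.card (PSL₂ F) ↔ r ∣ 2 ^ (2 * n) - 1 := by
  rw [card_psl_two hn hF, hr.dvd_mul]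
  refine or_iff_right fun h => hr2 ?_
  exact (Nat.prime_dvd_prime_iff_eq hr Nat.prime_two).1 (hr.dvd_of_dvd_pow h)

theorem odd_dvd_of_odd {r a : ℕ} (ha : Odd a) (h : r ∣ a) : r ≠ 2 := by
  rintro rfl
  exact (Nat.not_even_iff_odd.2 ha) (even_iff_two_dvd.2 h)

/-- A finite group with the prime graph of `PSL₂(2 ^ m)`, `m ≥ 4`, is `PSL₂(2 ^ m)` modulo its
largest normal 2-subgroup. -/
theorem pslEven {F : Type*} [Field F] [Fintype F] (m : ℕ) (hm : 4 ≤ m) (hF : Fintype.card F = 2 ^ m)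
    {G : Type u} [Group G] [Finite G] (hG : SameGraph (PSL₂ F) G) :
    Nonempty (G ⧸ Cfsg.pCore 2 G ≃* PSL₂ F) := by
  haveI := charP_two hF
  haveI : Fact (Nat.Prime 2) := ⟨Nat.prime_two⟩
  have hq : 16 ≤ 2 ^ m := le_trans (by norm_num) (Nat.pow_le_pow_right two_pos hm)
  have heven : Even (2 ^ m) := (Nat.even_pow' (by omega)).2 even_two
  have hsub : Odd (2 ^ m - 1) := by rw [Nat.odd_iff]; rw [Nat.even_iff] at heven; omega
  have hadd : Odd (2 ^ m + 1) := by rw [Nat.odd_iff]; rw [Nat.even_iff] at heven; omega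
  have hord : ∀ x : PSL₂ F, orderOf x ∣ 2 ^ m - 1 ∨ orderOf x ∣ 2 ^ m + 1 ∨ orderOf x ∣ 2 := by
    intro x
    have h := CfsgLib.PrimRecog.PSLSquare.orderOf_mem (p := 2) x
    simp only [CfsgLib.PrimRecog.PSLSquare.orders, Set.mem_setOf_eq] at h
    rwa [CfsgLib.PSL2.gcd_eq_one (hF ▸ heven), Nat.div_one, Nat.div_one, hF] at h
  obtain ⟨r, hr, hrd⟩ := Nat.exists_prime_and_dvd (show 2 ^ m - 1 ≠ 1 by omega)
  obtain ⟨s, hs, hsd⟩ := Nat.exists_prime_and_dvd (show 2 ^ m + 1 ≠ 1 by omega)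
  have hr2 := odd_dvd_of_odd hsub hrd
  have hs2 := odd_dvd_of_odd hadd hsd
  have hcop : ∀ p : ℕ, p ∣ 2 ^ m - 1 → p ∣ 2 ^ m + 1 → p ∣ 2 := fun p h1 h2 => by
    have := Nat.dvd_sub h2 h1
    rwa [show 2 ^ m + 1 - (2 ^ m - 1) = 2 by omega] at this
  have hrs : r ≠ s := by
    rintro rfl
    exact hr2 ((Nat.prime_dvd_prime_iff_eq hr Nat.prime_two).1 (hcop r hrd hsd))
  have hcard := card_psl_two (show m ≠ 0 by omega) hF
  have h2r : ∀ p : ℕ, p.Prime → p ≠ 2 → ¬ ∃ x : PSL₂ F, orderOf x = 2 * p := by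
    rintro p hp hp2 ⟨x, hx⟩
    rcases hord x with h | h | h <;> rw [hx] at h
    · exact (Nat.not_even_iff_odd.2 hsub) (even_iff_two_dvd.2 ((dvd_mul_right 2 p).trans h))
    · exact (Nat.not_even_iff_odd.2 hadd) (even_iff_two_dvd.2 ((dvd_mul_right 2 p).trans h))
    · have h1 := Nat.le_of_dvd two_pos h
      have := hp.two_le
      omega
  have hadj : ¬ ∃ x : PSL₂ F, orderOf x = r * s := by
    rintro ⟨x, hx⟩
    rcases hord x with h | h | h <;> rw [hx] at h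
    · exact hs2 ((Nat.prime_dvd_prime_iff_eq hs Nat.prime_two).1
        (hcop s ((dvd_mul_left s r).trans h) hsd))
    · exact hr2 ((Nat.prime_dvd_prime_iff_eq hr Nat.prime_two).1
        (hcop r hrd ((dvd_mul_right r s).trans h)))
    · exact hr2 ((Nat.prime_dvd_prime_iff_eq hr Nat.prime_two).1 ((dvd_mul_right r s).trans h))
  obtain ⟨hX, hX2, hXO, hXn, hpi⟩ := reduce hG h2r hr hs hr2 hs2 hrs
    (by rw [hcard]; exact (dvd_pow_self 2 (by omega : m ≠ 0)).mul_right _)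
    (by rw [hcard, two_pow_two_mul_sub_one]; exact (hrd.mul_left _).mul_left _)
    (by rw [hcard, two_pow_two_mul_sub_one]; exact (hsd.mul_right _).mul_left _) hadj
  haveI := hXn
  have hshape : ShapeAny (G ⧸ Cfsg.pCore 2 G) := shapeAny_of_steps kleinStep countStep hX hX2 hXO
  have hpi' : ∀ p : ℕ, p.Prime → p ≠ 2 →
      (p ∣ 2 ^ (2 * m) - 1 ↔ p ∣ Nat.card (G ⧸ Cfsg.pCore 2 G)) := fun p hp hp2 => by
    rw [← hpi p hp, odd_prime_dvd_psl_two (by omega) hF hp hp2]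
  obtain ⟨r₀, hr₀, hlt, hdvd⟩ := exists_ppd (k := 2 * m) (by omega) (by omega)
  -- orders whose prime divisors are at most 7
  have hsmall : ∀ N : ℕ, Nat.card (G ⧸ Cfsg.pCore 2 G) = N → N ∣ 20160 → False := by
    intro N hN hd
    have h := (((hpi' r₀ hr₀ (by omega)).1 ((hdvd _).2 dvd_rfl)).trans hN.dvd).trans hd
    rw [show 20160 = 2 ^ 6 * (3 ^ 2 * (5 * 7)) by norm_num] at h
    rcases hr₀.dvd_mul.1 h with h | h
    · have := (Nat.prime_dvd_prime_iff_eq hr₀ Nat.prime_two).1 (hr₀.dvd_of_dvd_pow h); omega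
    rcases hr₀.dvd_mul.1 h with h | h
    · have := (Nat.prime_dvd_prime_iff_eq hr₀ Nat.prime_three).1 (hr₀.dvd_of_dvd_pow h); omega
    rcases hr₀.dvd_mul.1 h with h | h
    · have := Nat.le_of_dvd (by norm_num) h; omega
    · have := Nat.le_of_dvd (by norm_num) h; omega
  have hnine : ∀ {K : Type} [Field K] [Fintype K], Fintype.card K = 9 → Nat.card (PSL₂ K) = 360 := by
    intro K _ _ hK
    have h := CfsgLib.PSL2.card_psl (F := K)
    rw [CfsgLib.PSL2.gcd_eq_two (by rw [hK]; decide), hK] at h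
    omega
  rcases hshape with ⟨-, K, iK, jK, ⟨n, hn, hK⟩, ⟨e⟩⟩ |
    ⟨⟨-, k, hk, hc⟩, -⟩ | ⟨⟨-, K, iK, jK, h7, hK, ⟨e⟩⟩ | ⟨N, -, hidx, K, iK, jK, hK, ⟨e⟩⟩ | ⟨-, hc, -⟩, -⟩
  · have hnm : n = m := even_exponent_eq (by omega) hm fun p hp hp2 => by
      rw [hpi' p hp hp2, Nat.card_congr e.toEquiv, odd_prime_dvd_psl_two (by omega) hK hp hp2]
    subst hnm
    exact ⟨e.trans (CfsgLib.ClassicalGroups.pslFieldCongr
      (FiniteField.ringEquivOfCardEq (hK.trans hF.symm)))⟩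
  · exfalso
    refine not_three_dvd_suzuki k (hc ▸ (hpi' 3 Nat.prime_three (by norm_num)).1 ?_)
    have h : (2 ^ 2) ^ m % 3 = 1 := by rw [Nat.pow_mod]; norm_num
    rw [pow_mul]
    omega
  · exfalso
    rcases hK with hK | ⟨hp, k, hk⟩
    · exact hsmall 360 (by rw [Nat.card_congr e.toEquiv, hnine hK]) (by norm_num)
    · set p := Fintype.card K
      have hodd : Odd p := hp.odd_of_ne_two (by omega)
      have hc := CfsgLib.PSL2.card_psl (F := K)
      rw [CfsgLib.PSL2.gcd_eq_two hodd] at hc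
      refine fermat_mersenne_false hp h7 hm hk fun q hq hq2 => ?_
      rw [hpi' q hq hq2, Nat.card_congr e.toEquiv, ← hc, hq.dvd_mul]
      exact (or_iff_right fun h => hq2 ((Nat.prime_dvd_prime_iff_eq hq Nat.prime_two).1 h)).symm
  · exfalso
    refine hsmall 720 ?_ (by norm_num)
    rw [← N.card_mul_index, hidx, Nat.card_congr e.toEquiv, hnine hK]
  · exact absurd dvd_rfl (hsmall 20160 hc)

end CfsgLib.CITGraph
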